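import Mathlib
import Cfsg.Agent.Lib.Conj.NormUnits

/-!
Units of an algebra with a semilinear involution: isometries times Hermitian units; fixed points of a semilinear
involution on functions.
-/

set_option autoImplicit false

namespace CfsgLib.UnitaryCentralizer

open Matrix

variable {K : Type*} [Field K] [Finite K] (φ : K →+* K)

theorem card_units_eq {A : Type*} [Ring A] [Algebra K A] [Finite A] (τ : A →+ A)
    (hmul : ∀ a b, τ (a * b) = τ b * τ a) (hsc : ∀ c, τ (algebraMap K A c) = algebraMap K A (φ c))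
    (hinv : ∀ a, τ (τ a) = a) {w : K} (hw : φ w ≠ w) (S : Subalgebra K A) (hS : ∀ a ∈ S, τ a ∈ S) :
    Nat.card {u : Aˣ // (u : A) ∈ S} =
      Nat.card {u : Aˣ // (u : A) ∈ S ∧ τ (u : A) * u = 1} *
        Nat.card {u : Aˣ // (u : A) ∈ S ∧ τ (u : A) = u} := by
  classical
  let G : Subgroup Aˣ :=
    { carrier := {u | (u : A) ∈ S}
      one_mem' := S.one_mem
      mul_mem' := fun {a b} ha hb => S.mul_mem ha hb
      inv_mem' := fun {u} hu => by
        have hsur : Function.Surjective (fun a : S => (⟨u, hu⟩ : S) * a) :=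
          Finite.surjective_of_injective fun a b hab =>
            Subtype.ext (u.isUnit.mul_left_cancel (congrArg Subtype.val hab :))
        obtain ⟨z, hz⟩ := hsur 1
        have h1 : (u : A) * z = 1 := congrArg Subtype.val hz
        show ((u⁻¹ : Aˣ) : A) ∈ S
        rw [← mul_one ((u⁻¹ : Aˣ) : A), ← h1, ← mul_assoc, Units.inv_mul, one_mul]
        exact z.2 }
  have hone : τ 1 = 1 := by rw [← map_one (algebraMap K A), hsc, map_one]
  let σ : Aˣ → Aˣ := fun u =>
    ⟨τ (u : A), τ ((u⁻¹ : Aˣ) : A), by rw [← hmul, Units.inv_mul, hone],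
      by rw [← hmul, Units.mul_inv, hone]⟩
  have hσval : ∀ u : Aˣ, ((σ u : Aˣ) : A) = τ (u : A) := fun u => rfl
  have hσmul : ∀ a b, σ (a * b) = σ b * σ a := fun a b => Units.ext (hmul _ _)
  have hσσ : ∀ a, σ (σ a) = a := fun a => Units.ext (hinv _)
  let p : {u : Aˣ // (u : A) ∈ S} → {u : Aˣ // (u : A) ∈ S ∧ τ (u : A) = u} := fun g =>
    ⟨σ g.1 * g.1, S.mul_mem (hS _ g.2) g.2, by
      rw [← hσval, hσmul, hσσ]⟩
  have hfib : ∀ H, Nonempty ({g // p g = H} ≃ {u : Aˣ // (u : A) ∈ S ∧ τ (u : A) * u = 1}) := by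
    rintro ⟨H, hHS, hH⟩
    obtain ⟨y, hyA, hyu, hy⟩ := (CfsgLib.Conj.adjoin_singleton_norm φ τ hmul hsc hw (Z := (H : A))
      (by rw [hH]; exact Algebra.self_mem_adjoin_singleton K _) (fun a _ => hinv a)).2 H
      (Algebra.self_mem_adjoin_singleton K _) H.isUnit hH
    have hyS : y ∈ S := Algebra.adjoin_le (by simpa using hHS) hyA
    have hcm := CfsgLib.Conj.commute_of_mem_adjoin_singleton
      (CfsgLib.Conj.map_mem_adjoin_singleton φ τ hmul hsc
        (by rw [hH]; exact Algebra.self_mem_adjoin_singleton K _) hyA) hyA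
    obtain ⟨Y, rfl⟩ := hyu
    have hY : σ Y * Y = H := Units.ext (hcm.trans hy)
    have hYi : σ Y⁻¹ = (σ Y)⁻¹ := Units.ext rfl
    refine ⟨{
      toFun := fun g => ⟨g.1.1 * Y⁻¹, S.mul_mem g.1.2 (G.inv_mem hyS), ?_⟩
      invFun := fun u => ⟨⟨u.1 * Y, S.mul_mem u.2.1 hyS⟩, Subtype.ext ?_⟩
      left_inv := fun g => Subtype.ext (Subtype.ext (inv_mul_cancel_right _ _))
      right_inv := fun u => Subtype.ext (mul_inv_cancel_right _ _) }⟩
    · have h1 : σ g.1.1 * g.1.1 = H := congrArg Subtype.val g.2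
      have h2 : σ (g.1.1 * Y⁻¹) * (g.1.1 * Y⁻¹) = 1 := by
        rw [hσmul, hYi, mul_assoc, ← mul_assoc (σ g.1.1), h1, ← hY]
        group
      exact congrArg Units.val h2
    · have h1 : σ u.1 * u.1 = 1 := Units.ext u.2.2
      show σ (u.1 * Y) * (u.1 * Y) = H
      rw [hσmul, mul_assoc, ← mul_assoc (σ u.1), h1, one_mul, hY]
  let F := fun H => (hfib H).some
  rw [Nat.card_congr ((Equiv.sigmaFiberEquiv p).symm.trans
    ((Equiv.sigmaCongrRight F).trans (Equiv.sigmaEquivProd _ _))), Nat.card_prod, mul_comm]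

/-- A semilinear involution on functions has as many fixed points as functions to the fixed field. -/
theorem card_fixed_fun (hφ : ∀ x, φ (φ x) = x) {w : K} (hw : φ w ≠ w) {q : ℕ} (hK : Nat.card K = q ^ 2)
    {α : Type*} [Finite α] (s : α → α) (hs : ∀ a, s (s a) = a) :
    Nat.card {f : α → K // ∀ a, φ (f (s a)) = f a} = q ^ Nat.card α := by
  let τ : (α → K) → (α → K) := fun f a => φ (f (s a))
  have hd : w - φ w ≠ 0 := sub_ne_zero.2 fun h => hw h.symm
  let S := {f : α → K // ∀ a, φ (f (s a)) = f a}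
  let Φ : S × S → (α → K) := fun p a => p.1.1 a + w * p.2.1 a
  have key : ∀ p : S × S, ∀ a, φ (Φ p (s a)) = p.1.1 a + φ w * p.2.1 a := fun p a => by
    simp only [Φ, map_add, map_mul, p.1.2, p.2.2]
  have hbij : Function.Bijective Φ := by
    constructor
    · intro p p' h
      have h2 : ∀ a, p.2.1 a = p'.2.1 a := fun a => by
        have e1 := congrFun h a
        have e2 : φ (Φ p (s a)) = φ (Φ p' (s a)) := by rw [h]
        rw [key, key] at e2
        simp only [Φ] at e1
        exact mul_left_cancel₀ hd (by linear_combination e1 - e2)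
      refine Prod.ext (Subtype.ext (funext fun a => ?_)) (Subtype.ext (funext h2))
      have e1 := congrFun h a
      simp only [Φ, h2 a] at e1
      exact add_right_cancel e1
    · intro g
      let f₂ : α → K := fun a => (g a - φ (g (s a))) / (w - φ w)
      have hf₂ : ∀ a, φ (f₂ (s a)) = f₂ a := fun a => by
        simp only [f₂, map_div₀, map_sub, hs, hφ]
        rw [← neg_sub (g a), ← neg_sub w, neg_div_neg_eq]
      refine ⟨(⟨fun a => g a - w * f₂ a, fun a => ?_⟩, ⟨f₂, hf₂⟩), funext fun a => ?_⟩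
      · show φ (g (s a) - w * f₂ (s a)) = g a - w * f₂ a
        rw [map_sub, map_mul, hf₂]
        simp only [f₂]
        field_simp
        ring
      · simp [Φ]
  have h := Nat.card_congr (Equiv.ofBijective Φ hbij)
  rw [Nat.card_prod, Nat.card_fun, hK, ← pow_mul, mul_comm 2, pow_mul, sq] at h
  exact Nat.mul_self_inj.1 h

variable {ι : Type*} [Fintype ι] [DecidableEq ι]

/-- Conjugate transposition composed with conjugation by an involutive permutation. -/
def twist (β : ι ≃ ι) : Matrix ι ι K →+ Matrix ι ι K where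
  toFun M := ((M.map φ).transpose).submatrix β β
  map_zero' := by ext; simp
  map_add' a b := by ext; simp

theorem twist_apply (β : ι ≃ ι) (M : Matrix ι ι K) (i j : ι) :
    twist φ β M i j = φ (M (β j) (β i)) := rfl

theorem twist_mul (β : ι ≃ ι) (a b : Matrix ι ι K) : twist φ β (a * b) = twist φ β b * twist φ β a := by
  show ((a * b).map φ).transpose.submatrix β β = _
  rw [Matrix.map_mul, Matrix.transpose_mul, ← Matrix.submatrix_mul_equiv _ _ _ β]
  rfl

theorem twist_algebraMap (β : ι ≃ ι) (c : K) :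
    twist φ β (algebraMap K (Matrix ι ι K) c) = algebraMap K _ (φ c) := by
  ext i j
  rw [twist_apply, Matrix.algebraMap_matrix_apply, Matrix.algebraMap_matrix_apply]
  rcases eq_or_ne i j with rfl | h
  · simp
  · simp [h, Ne.symm h]

theorem twist_one (β : ι ≃ ι) : twist φ β (1 : Matrix ι ι K) = 1 := by
  simpa using twist_algebraMap φ β (1 : K)

theorem twist_twist (hφ : ∀ x, φ (φ x) = x) (β : ι ≃ ι) (hβ : ∀ i, β (β i) = i) (M : Matrix ι ι K) :
    twist φ β (twist φ β M) = M := by
  ext i j; simp [twist_apply, hφ, hβ]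

/-- The unit with the twisted value. -/
def twistUnit (β : ι ≃ ι) (u : GL ι K) : GL ι K :=
  ⟨twist φ β u, twist φ β ↑u⁻¹, by rw [← twist_mul, Units.inv_mul, twist_one],
    by rw [← twist_mul, Units.mul_inv, twist_one]⟩

/-- The permutation matrix of an involution, as a unit. -/
def betaUnit (β : ι ≃ ι) (hβ : ∀ i, β (β i) = i) : GL ι K :=
  have h : (β.toPEquiv.toMatrix : Matrix ι ι K) * β.toPEquiv.toMatrix = 1 := by
    rw [← PEquiv.toMatrix_trans, ← Equiv.toPEquiv_trans, show β.trans β = Equiv.refl ι from Equiv.ext hβ]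
    simp [PEquiv.toMatrix_refl]
  ⟨β.toPEquiv.toMatrix, β.toPEquiv.toMatrix, h, h⟩

theorem betaUnit_apply (β : ι ≃ ι) (hβ : ∀ i, β (β i) = i) (i j : ι) :
    (betaUnit (K := K) β hβ : Matrix ι ι K) i j = if β i = j then 1 else 0 := by
  show (β.toPEquiv.toMatrix : Matrix ι ι K) i j = _
  simp [PEquiv.toMatrix_apply]

theorem twist_eq (β : ι ≃ ι) (hβ : ∀ i, β (β i) = i) (M : Matrix ι ι K) :
    twist φ β M = ((betaUnit β hβ : GL ι K) : Matrix ι ι K) * twist φ (Equiv.refl ι) M *
      ((betaUnit β hβ : GL ι K) : Matrix ι ι K) := by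
  ext i j
  rw [Matrix.mul_apply]
  simp only [Matrix.mul_apply, betaUnit_apply, ite_mul, one_mul, zero_mul, Finset.sum_ite_eq,
    Finset.mem_univ, if_true, mul_ite, mul_one, mul_zero]
  rw [Finset.sum_eq_single (β j)]
  · simp [twist_apply, hβ]
  · intro x _ hx; rw [if_neg]; intro h; exact hx (by rw [← h, hβ])
  · simp

theorem twist_refl_betaUnit (β : ι ≃ ι) (hβ : ∀ i, β (β i) = i) :
    twist φ (Equiv.refl ι) ((betaUnit β hβ : GL ι K) : Matrix ι ι K) = ((betaUnit β hβ : GL ι K) : Matrix ι ι K) := by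
  ext i j
  simp only [twist_apply, betaUnit_apply, Equiv.refl_apply]
  by_cases h : β i = j
  · rw [if_pos h, if_pos (show β j = i by rw [← h, hβ]), map_one]
  · rw [if_neg h, if_neg (fun h' => h (by rw [← h', hβ])), map_zero]

end CfsgLib.UnitaryCentralizer
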