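import Mathlib
import Cfsg.Agent.Lib.UnipotentGL.Count
import Cfsg.Agent.Lib.UnitaryCentralizer.Norm
import Cfsg.Agent.Lib.Conj.Unitary
import Cfsg.Agent.Lib.Classical.Herm.Std

/-!
The twisted involution on the commutant of a Jordan matrix and its Hermitian units.
-/

set_option autoImplicit false

namespace CfsgLib.UnitaryCentralizer

open Matrix CfsgLib.UnipotentGL

variable {K : Type*} [Field K] [Fintype K] (φ : K →+* K) {t : ℕ} {d : Fin t → ℕ}

/-- Reversal inside each block. -/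
def flipIdx (d : Fin t → ℕ) : Idx d ≃ Idx d := Equiv.sigmaCongrRight fun _ => Fin.revPerm

theorem flipIdx_fst (x : Idx d) : (flipIdx d x).1 = x.1 := rfl

theorem flipIdx_snd (x : Idx d) : (flipIdx d x).2.1 = d x.1 - (x.2.1 + 1) := by
  show (Fin.rev x.2 : Fin (d x.1)).1 = _
  rw [Fin.val_rev]

theorem flipIdx_flipIdx (x : Idx d) : flipIdx d (flipIdx d x) = x := by
  refine idx_ext rfl ?_
  rw [flipIdx_snd, flipIdx_snd, flipIdx_fst]
  have := x.2.2
  omega

theorem idx_eq_iff (x y : Idx d) : x = y ↔ x.1 = y.1 ∧ x.2.1 = y.2.1 :=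
  ⟨fun h => by subst h; exact ⟨rfl, rfl⟩, fun h => idx_ext h.1 h.2⟩

theorem twist_J :
    twist φ (flipIdx d) (Cfsg.jordanTypeMatrix d K) = Cfsg.jordanTypeMatrix d K := by
  ext x y
  rw [twist_apply, J_apply, J_apply, map_add]
  congr 1
  · rw [apply_ite φ, map_one, map_zero]
    refine if_congr ?_ rfl rfl
    exact ⟨fun h => ((flipIdx d).injective h).symm, fun h => by rw [h]⟩
  · rw [apply_ite φ, map_one, map_zero]
    refine if_congr ?_ rfl rfl
    rw [idx_eq_iff, idx_eq_iff]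
    simp only [pre, flipIdx_snd, flipIdx_fst]
    constructor <;> rintro ⟨h1, h2, h3⟩
    · refine ⟨?_, h2.symm, ?_⟩ <;>
      · have := x.2.2; have := y.2.2; have : d x.1 = d y.1 := by rw [h2]
        omega
    · refine ⟨?_, h2.symm, ?_⟩ <;>
      · have := x.2.2; have := y.2.2; have : d x.1 = d y.1 := by rw [h2]
        omega

/-- Transposition of parameters. -/
def swPar (p : Par d) : Par d := ⟨(p.1.2, p.1.1), ⟨p.2.1, lt_of_lt_of_eq p.2.2 (min_comm _ _)⟩⟩

theorem swPar_swPar (p : Par d) : swPar (swPar p) = p := rfl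

theorem isDiag_swPar {p : Par d} (h : CfsgLib.UnipotentGL.IsDiag p) : CfsgLib.UnipotentGL.IsDiag (swPar p) :=
  ⟨h.1.symm, h.2.trans h.1.symm⟩

theorem isDiag_swPar_iff (p : Par d) : CfsgLib.UnipotentGL.IsDiag (swPar p) ↔ CfsgLib.UnipotentGL.IsDiag p :=
  ⟨fun h => swPar_swPar p ▸ isDiag_swPar h, isDiag_swPar⟩

/-- The twisted involution on parameters. -/
def twistPar (c : Par d → K) (p : Par d) : K := φ (c (swPar p))

theorem twist_toMat (c : Par d → K) : twist φ (flipIdx d) (toMat c) = toMat (twistPar φ c) := by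
  ext ⟨k, ⟨a, ha⟩⟩ ⟨l, ⟨b, hb⟩⟩
  rw [twist_apply]
  simp only [toMat, Matrix.of_apply, flipIdx_fst, flipIdx_snd, apply_dite φ, map_zero]
  split_ifs with h1 h2
  · show φ (c _) = φ (c _)
    refine congrArg φ (congrArg c ?_)
    simp only [swPar, Sigma.mk.injEq, Prod.mk.injEq, heq_eq_eq]
    refine ⟨trivial, Fin.ext ?_⟩
    simp only
    omega
  · exfalso; omega
  · exfalso; omega
  · rfl

theorem twist_block (c : Par d → K) (i : ℕ) :
    (socleMat (twistPar φ c)).toSquareBlock d i =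
      twist φ (Equiv.refl {k // d k = i}) ((socleMat c).toSquareBlock d i) := by
  ext ⟨k, hk⟩ ⟨l, hl⟩
  rw [twist_apply]
  simp only [Matrix.toSquareBlock_def, socleMat, Matrix.of_apply, Equiv.refl_apply, apply_dite φ, map_zero]
  split_ifs with h1 h2
  · show φ (c _) = φ (c _)
    refine congrArg φ (congrArg c ?_)
    simp only [swPar, Sigma.mk.injEq, Prod.mk.injEq, heq_eq_eq]
    refine ⟨trivial, Fin.ext ?_⟩
    simp only
    omega
  · exfalso; omega
  · exfalso; omega
  · rfl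

/-- Units with a property, as matrices. -/
noncomputable def unitsEquiv {A : Type*} [Monoid A] (P : A → Prop) :
    {u : Aˣ // P u} ≃ {a : A // IsUnit a ∧ P a} :=
  Equiv.ofBijective (fun u => ⟨u.1, u.1.isUnit, u.2⟩)
    ⟨fun _ _ h => Subtype.ext (Units.ext (congrArg Subtype.val h)),
      fun a => ⟨⟨a.2.1.unit, a.2.2⟩, Subtype.ext rfl⟩⟩

section Small

variable {ι : Type*} [Fintype ι] [DecidableEq ι]

theorem card_gl_eq (hφ : ∀ x, φ (φ x) = x) {w : K} (hw : φ w ≠ w) :
    Nat.card {A : Matrix ι ι K // IsUnit A} =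
      Nat.card {A : Matrix ι ι K // IsUnit A ∧ twist φ (Equiv.refl ι) A * A = 1} *
        Nat.card {A : Matrix ι ι K // IsUnit A ∧ twist φ (Equiv.refl ι) A = A} := by
  have h := card_units_eq φ (twist φ (Equiv.refl ι)) (twist_mul φ _) (twist_algebraMap φ _)
    (twist_twist φ hφ _ fun _ => rfl) hw ⊤ (fun _ _ => Algebra.mem_top)
  have hc : ∀ (P Q : Matrix ι ι K → Prop), (∀ a, IsUnit a ∧ P a ↔ Q a) →
      Nat.card {u : (Matrix ι ι K)ˣ // P u} = Nat.card {a // Q a} := fun P Q hPQ =>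
    Nat.card_congr ((unitsEquiv P).trans (Equiv.subtypeEquivRight hPQ))
  rw [hc (fun a => a ∈ (⊤ : Subalgebra K (Matrix ι ι K))) (fun a => IsUnit a) (fun a => by simp),
    hc (fun a => a ∈ (⊤ : Subalgebra K (Matrix ι ι K)) ∧ twist φ (Equiv.refl ι) a * a = 1)
      (fun a => IsUnit a ∧ twist φ (Equiv.refl ι) a * a = 1) (fun a => by simp),
    hc (fun a => a ∈ (⊤ : Subalgebra K (Matrix ι ι K)) ∧ twist φ (Equiv.refl ι) a = a)
      (fun a => IsUnit a ∧ twist φ (Equiv.refl ι) a = a) (fun a => by simp)] at h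
  exact h

theorem card_unitary {q : ℕ} (hK : Fintype.card K = q ^ 2) (hq : ∀ x, φ x = x ^ q) (hφ : ∀ x, φ (φ x) = x) :
    (Nat.card {A : Matrix ι ι K // IsUnit A ∧ twist φ (Equiv.refl ι) A * A = 1} : ℤ) =
      (q : ℤ) ^ (Fintype.card ι * (Fintype.card ι - 1) / 2) *
        ∏ j : Fin (Fintype.card ι), ((q : ℤ) ^ ((j : ℕ) + 1) - (-1) ^ ((j : ℕ) + 1)) := by
  let a := Fintype.card ι
  let e := Fintype.equivFin ι
  let E := Matrix.reindexAlgEquiv K K e
  have hE : ∀ A, CfsgLib.Conj.conjT (n := a) φ (E A) = E (twist φ (Equiv.refl ι) A) := fun A => by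
    ext i j
    simp [E, CfsgLib.Conj.conjT, twist_apply]
  have e1 : {A : Matrix ι ι K // IsUnit A ∧ twist φ (Equiv.refl ι) A * A = 1} ≃
      {A : Matrix (Fin a) (Fin a) K // IsUnit A ∧ CfsgLib.Conj.conjT (n := a) φ A * A = 1} :=
    E.toEquiv.subtypeEquiv fun A => by
      show _ ↔ IsUnit (E A) ∧ CfsgLib.Conj.conjT (n := a) φ (E A) * E A = 1
      rw [hE, ← map_mul, EmbeddingLike.map_eq_one_iff]
      refine and_congr_left fun _ => ⟨fun h => h.map E, fun h => ?_⟩
      simpa using h.map E.symm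
  have e2 : {g : GL (Fin a) K // g ∈ Cfsg.GU a K q} ≃
      {A : Matrix (Fin a) (Fin a) K // IsUnit A ∧ CfsgLib.Conj.conjT (n := a) φ A * A = 1} :=
    (Equiv.subtypeEquivRight fun g => CfsgLib.Conj.mem_GU_iff φ hq hφ g).trans
      (unitsEquiv fun A => CfsgLib.Conj.conjT (n := a) φ A * A = 1)
  rw [Nat.card_congr (e1.trans e2.symm)]
  change (Nat.card (Cfsg.GU a K q) : ℤ) = _
  rw [Nat.card_congr (CfsgLib.Classical.Herm.guEquiv hK a).toEquiv, CfsgLib.Classical.Herm.card_unit hK a,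
    Nat.cast_mul, Nat.cast_pow, Nat.cast_prod, Fin.prod_univ_eq_prod_range (fun j => ((q : ℤ) ^ (j + 1) - (-1) ^ (j + 1))) a]
  congr 1
  refine Finset.prod_congr rfl fun i _ => ?_
  have hq1 : 1 ≤ q ^ (i + 1) := Nat.one_le_pow _ _ (by
    have := CfsgLib.Classical.Herm.two_le_of_card hK; omega)
  split_ifs with h
  · push_cast
    rw [h.add_one.neg_one_pow]
    ring
  · rw [Nat.cast_sub hq1]
    push_cast
    rw [(Nat.not_even_iff_odd.1 h).add_one.neg_one_pow]

end Small

theorem splitEquiv_snd (hd : ∀ k, 1 ≤ d k) (c : Par d → K) (p : {p : Par d // ¬ CfsgLib.UnipotentGL.IsDiag p}) :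
    (splitEquiv hd c).2 p = c p.1 := rfl

theorem card_herm_params (hd : ∀ k, 1 ≤ d k) (hφ : ∀ x, φ (φ x) = x) {w : K} (hw : φ w ≠ w) {q : ℕ}
    (hK : Fintype.card K = q ^ 2) :
    Nat.card {c : Par d → K // IsUnit (socleMat c) ∧ twistPar φ c = c} =
      (∏ i : Fin (Finset.univ.sup d + 1), Nat.card {A : Matrix {k // d k = i.1} {k // d k = i.1} K //
          IsUnit A ∧ twist φ (Equiv.refl _) A = A}) * q ^ Nat.card {p : Par d // ¬ CfsgLib.UnipotentGL.IsDiag p} := by
  classical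
  let s : {p : Par d // ¬ CfsgLib.UnipotentGL.IsDiag p} → {p : Par d // ¬ CfsgLib.UnipotentGL.IsDiag p} :=
    fun p => ⟨swPar p.1, fun h => p.2 ((isDiag_swPar_iff _).1 h)⟩
  have key : ∀ c : Par d → K, (IsUnit (socleMat c) ∧ twistPar φ c = c) ↔
      (∀ i, IsUnit ((splitEquiv hd c).1 i) ∧ twist φ (Equiv.refl _) ((splitEquiv hd c).1 i) = (splitEquiv hd c).1 i) ∧
        ∀ p, φ ((splitEquiv hd c).2 (s p)) = (splitEquiv hd c).2 p := by
    intro c
    simp only [splitEquiv_fst, splitEquiv_snd]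
    constructor
    · rintro ⟨h1, h2⟩
      refine ⟨fun i => ⟨(socleMat_isUnit_iff c).1 h1 i, ?_⟩, fun p => congrFun h2 p.1⟩
      conv_rhs => rw [← h2]
      exact (twist_block φ c i).symm
    · rintro ⟨h1, h2⟩
      refine ⟨(socleMat_isUnit_iff c).2 fun i => ?_, (splitEquiv hd).injective (Prod.ext (funext fun i => ?_)
        (funext fun p => ?_))⟩
      · by_cases hi : i < Finset.univ.sup d + 1
        · exact (h1 ⟨i, hi⟩).1
        · haveI : IsEmpty {k // d k = i} := ⟨fun k => by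
            have := Finset.le_sup (f := d) (Finset.mem_univ k.1); have := k.2; omega⟩
          exact isUnit_of_subsingleton _
      · rw [splitEquiv_fst, splitEquiv_fst, twist_block]
        exact (h1 i).2
      · rw [splitEquiv_snd, splitEquiv_snd]
        exact h2 p
  have e : {c : Par d → K // IsUnit (socleMat c) ∧ twistPar φ c = c} ≃
      ((i : Fin (Finset.univ.sup d + 1)) → {A : Matrix {k // d k = i.1} {k // d k = i.1} K //
          IsUnit A ∧ twist φ (Equiv.refl _) A = A}) ×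
        {f : {p : Par d // ¬ CfsgLib.UnipotentGL.IsDiag p} → K // ∀ p, φ (f (s p)) = f p} :=
    ((splitEquiv hd).subtypeEquiv (q := fun x => (∀ i, IsUnit (x.1 i) ∧ twist φ (Equiv.refl _) (x.1 i) = x.1 i) ∧
      ∀ p, φ (x.2 (s p)) = x.2 p) key).trans
    ((Equiv.subtypeProdEquivProd (p := fun x : (i : Fin (Finset.univ.sup d + 1)) →
        Matrix {k // d k = i.1} {k // d k = i.1} K => ∀ i, IsUnit (x i) ∧ twist φ (Equiv.refl _) (x i) = x i)
      (q := fun f : {p : Par d // ¬ CfsgLib.UnipotentGL.IsDiag p} → K => ∀ p, φ (f (s p)) = f p)).trans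
      (Equiv.prodCongr (Equiv.subtypePiEquivPi (β := fun i : Fin (Finset.univ.sup d + 1) =>
          Matrix {k // d k = i.1} {k // d k = i.1} K)
          (p := fun {i} A => IsUnit A ∧ twist φ (Equiv.refl _) A = A)) (Equiv.refl _)))
  rw [Nat.card_congr e, Nat.card_prod, Nat.card_pi,
    card_fixed_fun φ hφ hw (by rw [Nat.card_eq_fintype_card]; exact hK) s (fun p => Subtype.ext rfl)]

end CfsgLib.UnitaryCentralizer
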