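import Mathlib
import Cfsg.Agent.Lib.UnitaryCentralizer.Herm
import Cfsg.Agent.Lib.LinFix.JordanIso

/-!
The order of the centraliser of a unipotent element in `GU n`.
-/

set_option autoImplicit false

namespace CfsgLib.UnitaryCentralizer

open Matrix CfsgLib.UnipotentGL

variable {K : Type*} [Field K] [Fintype K] (φ : K →+* K)

omit [Fintype K] in
theorem similar_of_rank {ι : Type*} [Fintype ι] [DecidableEq ι] {M N : Matrix ι ι K} (hM : IsNilpotent M)
    (hN : IsNilpotent N) (h : ∀ j, (M ^ j).rank = (N ^ j).rank) :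
    ∃ R : GL ι K, M * (R : Matrix ι ι K) = (R : Matrix ι ι K) * N := by
  have hpow : ∀ (X : Matrix ι ι K) j, Module.finrank K (LinearMap.range (Matrix.toLin' X ^ j)) = (X ^ j).rank := by
    intro X j
    show _ = Module.finrank K (LinearMap.range (Matrix.mulVecLin (X ^ j)))
    rw [← Matrix.toLin'_apply']
    exact congrArg (fun f => Module.finrank K (LinearMap.range f)) (map_pow (Matrix.toLinAlgEquiv' (R := K)) X j).symm
  obtain ⟨e, he⟩ := CfsgLib.LinFix.exists_equiv_of_ranks (N := Matrix.toLin' N) (N' := Matrix.toLin' M)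
    (hN.map (Matrix.toLinAlgEquiv' (R := K))) (hM.map (Matrix.toLinAlgEquiv' (R := K)))
    (fun j => by rw [hpow, hpow, h])
  have hE : LinearMap.toMatrix' (e : (ι → K) →ₗ[K] ι → K) *
      LinearMap.toMatrix' (e.symm : (ι → K) →ₗ[K] ι → K) = 1 := by
    rw [← LinearMap.toMatrix'_comp, LinearEquiv.comp_symm, LinearMap.toMatrix'_id]
  refine ⟨⟨_, _, hE, mul_eq_one_comm.mp hE⟩, Matrix.toLin'.injective ?_⟩
  show Matrix.toLin' (M * LinearMap.toMatrix' (e : (ι → K) →ₗ[K] ι → K)) =
    Matrix.toLin' (LinearMap.toMatrix' (e : (ι → K) →ₗ[K] ι → K) * N)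
  rw [Matrix.toLin'_mul, Matrix.toLin'_mul, Matrix.toLin'_toMatrix']
  exact LinearMap.ext fun v => (he v).symm

variable {t : ℕ} {d : Fin t → ℕ}

omit [Fintype K] in
theorem isNilpotent_J_sub_one : IsNilpotent (Cfsg.jordanTypeMatrix d K - 1) := by
  refine ⟨Finset.univ.sup d, Matrix.toLin'.injective (LinearMap.ext fun v => ?_)⟩
  rw [map_zero, LinearMap.zero_apply, Matrix.toLin'_apply]
  have key : ∀ j, ∀ x : Idx d, x.2.1 < j → ((Cfsg.jordanTypeMatrix d K - 1) ^ j).mulVec v x = 0 := by
    intro j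
    induction j with
    | zero => intro x hx; omega
    | succ j ih =>
      intro x hx
      rw [pow_succ', ← Matrix.mulVec_mulVec, Matrix.sub_mulVec, Matrix.one_mulVec, Pi.sub_apply, J_mulVec,
        add_sub_cancel_left]
      split_ifs with h
      · exact ih _ (by simp only [pre]; omega)
      · rfl
  funext x
  exact key _ x (lt_of_lt_of_le x.2.2 (Finset.le_sup (Finset.mem_univ x.1)))

/-- Invertible matrices commuting with the Jordan matrix, three ways. -/
theorem card_commutant_unitary (hd : ∀ k, 1 ≤ d k) {q : ℕ} (hK : Fintype.card K = q ^ 2)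
    (hq : ∀ x, φ x = x ^ q) (hφ : ∀ x, φ (φ x) = x) {w : K} (hw : φ w ≠ w) :
    (Nat.card {g : GL (Idx d) K // (g : Matrix (Idx d) (Idx d) K) * Cfsg.jordanTypeMatrix d K =
        Cfsg.jordanTypeMatrix d K * g ∧ twist φ (flipIdx d) (g : Matrix (Idx d) (Idx d) K) * g = 1} : ℤ) =
      (q : ℤ) ^ Nat.card {p : Par d // ¬ CfsgLib.UnipotentGL.IsDiag p} *
        ∏ i : Fin (Finset.univ.sup d + 1), ((q : ℤ) ^ (Fintype.card {k // d k = i.1} * (Fintype.card {k // d k = i.1} - 1) / 2) *
          ∏ j : Fin (Fintype.card {k // d k = i.1}), ((q : ℤ) ^ ((j : ℕ) + 1) - (-1) ^ ((j : ℕ) + 1))) := by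
  classical
  set J := Cfsg.jordanTypeMatrix d K with hJ
  have hmemS : ∀ a, a ∈ Subalgebra.centralizer K ({J} : Set (Matrix (Idx d) (Idx d) K)) ↔ a * J = J * a :=
    fun a => by rw [Subalgebra.mem_centralizer_iff]; simp [eq_comm]
  have h := card_units_eq φ (twist φ (flipIdx d)) (twist_mul φ _) (twist_algebraMap φ _)
    (twist_twist φ hφ _ flipIdx_flipIdx) hw (Subalgebra.centralizer K ({J} : Set (Matrix (Idx d) (Idx d) K)))
    (fun a ha => by
      rw [hmemS] at ha ⊢
      have h1 := congrArg (twist φ (flipIdx d)) ha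
      rw [twist_mul, twist_mul, twist_J] at h1
      exact h1.symm)
  -- all units of the commutant
  have hall : Nat.card {u : GL (Idx d) K // (u : Matrix (Idx d) (Idx d) K) ∈ Subalgebra.centralizer K ({J} : Set _)} =
      Fintype.card K ^ Nat.card {p : Par d // ¬ CfsgLib.UnipotentGL.IsDiag p} *
        ∏ i : Fin (Finset.univ.sup d + 1), Nat.card {A : Matrix {k // d k = i.1} {k // d k = i.1} K // IsUnit A} := by
    rw [Nat.card_congr ((unitsEquiv (fun a => a ∈ Subalgebra.centralizer K ({J} : Set _))).trans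
      (Equiv.subtypeEquivRight (q := fun X => X * J = J * X ∧ IsUnit X) fun a => by rw [hmemS]; exact and_comm)),
      card_units_comm hd]
    exact congrArg _ (Finset.prod_congr rfl fun i _ => (det_ne_zero_iff_GL).symm)
  -- Hermitian ones
  have hherm : Nat.card {u : GL (Idx d) K // (u : Matrix (Idx d) (Idx d) K) ∈ Subalgebra.centralizer K ({J} : Set _) ∧
      twist φ (flipIdx d) (u : Matrix (Idx d) (Idx d) K) = u} =
      (∏ i : Fin (Finset.univ.sup d + 1), Nat.card {A : Matrix {k // d k = i.1} {k // d k = i.1} K //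
          IsUnit A ∧ twist φ (Equiv.refl _) A = A}) * q ^ Nat.card {p : Par d // ¬ CfsgLib.UnipotentGL.IsDiag p} := by
    rw [← card_herm_params φ hd hφ hw hK]
    refine Nat.card_congr ((unitsEquiv (fun a => a ∈ Subalgebra.centralizer K ({J} : Set _) ∧
      twist φ (flipIdx d) a = a)).trans ((Equiv.subtypeEquivRight
      (q := fun X => X * J = J * X ∧ (IsUnit X ∧ twist φ (flipIdx d) X = X)) fun a => by
        rw [hmemS]; exact and_left_comm).trans
      ((Equiv.subtypeSubtypeEquivSubtypeInter (fun X => X * J = J * X)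
        (fun X => IsUnit X ∧ twist φ (flipIdx d) X = X)).symm.trans
        ((commEquiv (d := d) (F := K)).subtypeEquiv fun X => ?_))))
    show _ ↔ IsUnit (socleMat (params X.1)) ∧ twistPar φ (params X.1) = params X.1
    rw [← toMat_injective_iff hd, toMat_params X.2]
    refine and_congr_right fun _ => ⟨fun h => ?_, fun h => ?_⟩
    · rw [← params_toMat (twistPar φ (params X.1)), ← twist_toMat, toMat_params X.2, h]
    · conv_lhs => rw [← toMat_params X.2, twist_toMat, h, toMat_params X.2]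
  have hblock : ∀ i : Fin (Finset.univ.sup d + 1),
      Nat.card {A : Matrix {k // d k = i.1} {k // d k = i.1} K // IsUnit A} =
      Nat.card {A : Matrix {k // d k = i.1} {k // d k = i.1} K // IsUnit A ∧ twist φ (Equiv.refl _) A * A = 1} *
        Nat.card {A : Matrix {k // d k = i.1} {k // d k = i.1} K // IsUnit A ∧ twist φ (Equiv.refl _) A = A} :=
    fun i => card_gl_eq φ hφ hw
  rw [hall, hherm, Finset.prod_congr rfl (fun i _ => hblock i), Finset.prod_mul_distrib, hK] at h
  set U := Nat.card {u : GL (Idx d) K // (u : Matrix (Idx d) (Idx d) K) ∈ Subalgebra.centralizer K ({J} : Set _) ∧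
      twist φ (flipIdx d) (u : Matrix (Idx d) (Idx d) K) * u = 1}
  set m := Nat.card {p : Par d // ¬ CfsgLib.UnipotentGL.IsDiag p}
  set PU := ∏ i : Fin (Finset.univ.sup d + 1),
    Nat.card {A : Matrix {k // d k = i.1} {k // d k = i.1} K // IsUnit A ∧ twist φ (Equiv.refl _) A * A = 1}
  set PH := ∏ i : Fin (Finset.univ.sup d + 1),
    Nat.card {A : Matrix {k // d k = i.1} {k // d k = i.1} K // IsUnit A ∧ twist φ (Equiv.refl _) A = A}
  have hq0 : 0 < q := by
    have := CfsgLib.Classical.Herm.two_le_of_card hK; omega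
  have hPH : 0 < PH := Finset.prod_pos fun i _ => by
    haveI : Nonempty {A : Matrix {k // d k = i.1} {k // d k = i.1} K // IsUnit A ∧ twist φ (Equiv.refl _) A = A} :=
      ⟨⟨1, isUnit_one, twist_one φ _⟩⟩
    exact Nat.card_pos
  have hU : U = q ^ m * PU := by
    refine Nat.eq_of_mul_eq_mul_right (Nat.mul_pos hPH (pow_pos hq0 m)) ?_
    rw [← h, ← pow_mul, two_mul, pow_add]
    ring
  rw [Nat.card_congr (Equiv.subtypeEquivRight (fun g : GL (Idx d) K => (and_congr_left fun _ => (hmemS _).symm :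
    _ ↔ (g : Matrix (Idx d) (Idx d) K) ∈ Subalgebra.centralizer K ({J} : Set _) ∧
      twist φ (flipIdx d) (g : Matrix (Idx d) (Idx d) K) * g = 1)))]
  show (U : ℤ) = _
  rw [hU, Nat.cast_mul, Nat.cast_pow, Nat.cast_prod]
  exact congrArg _ (Finset.prod_congr rfl fun i _ => card_unitary φ hK hq hφ)

theorem card_centralizer {q n : ℕ} (hd : ∀ k, 1 ≤ d k) (hK : Fintype.card K = q ^ 2) (e : Idx d ≃ Fin n)
    (u : ↥(Cfsg.GU n K q))
    (hu : IsConj (Matrix.reindex e e (Cfsg.jordanTypeMatrix d K)) ((u : GL (Fin n) K) : Matrix (Fin n) (Fin n) K)) :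
    (Nat.card ↥(Subgroup.centralizer ({u} : Set ↥(Cfsg.GU n K q))) : ℤ) =
      (q : ℤ) ^ Nat.card {p : Par d // ¬ CfsgLib.UnipotentGL.IsDiag p} *
        ∏ i : Fin (Finset.univ.sup d + 1), ((q : ℤ) ^ (Fintype.card {k // d k = i.1} * (Fintype.card {k // d k = i.1} - 1) / 2) *
          ∏ j : Fin (Fintype.card {k // d k = i.1}), ((q : ℤ) ^ ((j : ℕ) + 1) - (-1) ^ ((j : ℕ) + 1))) := by
  classical
  obtain ⟨φ, hφq, hφ, w, hw⟩ := CfsgLib.Conj.exists_frob hK
  rw [← card_commutant_unitary φ hd hK hφq hφ hw]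
  refine congrArg Nat.cast ?_
  let E := Matrix.reindexAlgEquiv K K e.symm
  let ct : Matrix (Idx d) (Idx d) K →+ Matrix (Idx d) (Idx d) K := twist φ (Equiv.refl (Idx d))
  have hE : ∀ M, ct (E M) = E (CfsgLib.Conj.conjT (n := n) φ M) := fun M => by
    ext i j; simp [E, ct, CfsgLib.Conj.conjT, twist_apply]
  let Eu : GL (Fin n) K ≃* GL (Idx d) K := Units.mapEquiv E.toMulEquiv
  let v : GL (Idx d) K := Eu (u : GL (Fin n) K)
  have hmemE : ∀ g : GL (Fin n) K, g ∈ Cfsg.GU n K q ↔
      ct (Eu g : Matrix (Idx d) (Idx d) K) * (Eu g : Matrix (Idx d) (Idx d) K) = 1 := by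
    intro g
    rw [CfsgLib.Conj.mem_GU_iff φ hφq hφ]
    show _ ↔ ct (E (g : Matrix (Fin n) (Fin n) K)) * E (g : Matrix (Fin n) (Fin n) K) = 1
    rw [hE, ← map_mul, EmbeddingLike.map_eq_one_iff]
  have hv1 : ct (v : Matrix (Idx d) (Idx d) K) * v = 1 := (hmemE _).1 u.2
  set J := Cfsg.jordanTypeMatrix d K with hJ
  obtain ⟨P, hP⟩ : ∃ P : GL (Idx d) K, (v : Matrix (Idx d) (Idx d) K) * P = P * J := by
    obtain ⟨c, hc⟩ := hu
    refine ⟨Eu c, ?_⟩
    have h1 := congrArg E hc.eq
    rw [map_mul, map_mul] at h1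
    have h2 : E (Matrix.reindex e e J) = J := by ext i j; simp [E]
    rw [h2] at h1
    exact h1.symm
  -- a Cayley transform
  let s : K := w - φ w
  have hs0 : s ≠ 0 := sub_ne_zero.2 fun h => hw h.symm
  obtain ⟨s', hs', hφs'⟩ : ∃ s' : K, s' ≠ 0 ∧ φ s' ≠ s' := ⟨w, fun h => hw (by rw [h, map_zero]), hw⟩
  let α : K := -s' / φ s'
  have hφs0 : φ s' ≠ 0 := (_root_.map_ne_zero φ).2 hs'
  have hα0 : α ≠ 0 := div_ne_zero (neg_ne_zero.2 hs') hφs0
  have hαinv : φ α * α = 1 := by
    simp only [α, map_div₀, map_neg, hφ]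
    field_simp
  have hα1 : 1 + α ≠ 0 := fun h => hφs' (by
    simp only [α] at h
    field_simp at h
    linear_combination h)
  let V := (v : Matrix (Idx d) (Idx d) K)
  have hN := isNilpotent_J_sub_one (K := K) (d := d)
  have hVP : V = (P : Matrix (Idx d) (Idx d) K) * J * (↑P⁻¹ : Matrix (Idx d) (Idx d) K) := by
    rw [← hP, Units.mul_inv_cancel_right]
  have hVnil : IsNilpotent (V - 1) := by
    have : V - 1 = (P : Matrix (Idx d) (Idx d) K) * (J - 1) * (↑P⁻¹ : Matrix (Idx d) (Idx d) K) := by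
      rw [mul_sub, sub_mul, mul_one, Units.mul_inv, ← hVP]
    obtain ⟨m, hm⟩ := hN
    exact ⟨m, by rw [this, Units.conj_pow, hm, mul_zero, zero_mul]⟩
  obtain ⟨W, hW⟩ : IsUnit (V + algebraMap K _ α) := by
    have : V + algebraMap K _ α = (V - 1) + algebraMap K _ (1 + α) := by rw [map_add, map_one]; abel
    rw [this]
    exact hVnil.isUnit_add_right_of_commute ((isUnit_iff_ne_zero.2 hα1).map _)
      (Algebra.commute_algebraMap_right _ _)
  obtain ⟨A, hA⟩ : ∃ A, A = algebraMap K (Matrix (Idx d) (Idx d) K) s' * ((V - 1) * (↑W⁻¹ : Matrix (Idx d) (Idx d) K)) :=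
    ⟨_, rfl⟩
  have hWcomm : Commute (W : Matrix (Idx d) (Idx d) K) (V - 1) := by
    rw [hW]
    exact ((Commute.refl V).sub_right (Commute.one_right _)).add_left (Algebra.commute_algebraMap_left α _)
  have hWicomm : Commute (↑W⁻¹ : Matrix (Idx d) (Idx d) K) (V - 1) := hWcomm.units_inv_left
  have hAW : A * (W : Matrix (Idx d) (Idx d) K) = algebraMap K _ s' * (V - 1) := by
    rw [hA]; simp only [mul_assoc, Units.inv_mul, mul_one]
  have hWA : (W : Matrix (Idx d) (Idx d) K) * A = algebraMap K _ s' * (V - 1) := by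
    rw [← hAW, hA]
    exact ((Algebra.commute_algebraMap_right s' _).mul_right
      (hWcomm.mul_right ((Commute.refl (W : Matrix (Idx d) (Idx d) K)).units_inv_right))).eq
  have hctmul : ∀ a b, ct (a * b) = ct b * ct a := twist_mul φ _
  have hctam : ∀ c, ct (algebraMap K _ c) = algebraMap K _ (φ c) := twist_algebraMap φ _
  have hctA : ct A = A := by
    have h1 := congrArg ct hAW
    rw [hctmul, hctmul, hW, map_add, map_sub, hctam, hctam,
      show ct 1 = 1 from twist_one φ _] at h1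
    have h2 : ct V * V = 1 := hv1
    have h3 : V * ct V = 1 := mul_eq_one_comm.mp h2
    -- multiply by `α V`
    have h4 := congrArg (fun X => algebraMap K _ α * V * X) h1
    beta_reduce at h4
    have h5 : algebraMap K _ α * V * (ct V + algebraMap K _ (φ α)) = (W : Matrix (Idx d) (Idx d) K) := by
      rw [hW, mul_add, mul_assoc (algebraMap K _ α) V (ct V), h3, mul_one, mul_assoc,
        ← Algebra.commutes (φ α) V, ← mul_assoc, ← map_mul, mul_comm α, hαinv, map_one, one_mul, add_comm]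
    have h6 : algebraMap K _ α * V * ((ct V - 1) * algebraMap K _ (φ s')) = algebraMap K _ s' * (V - 1) := by
      rw [← Algebra.commutes (φ s'), ← mul_assoc, mul_assoc (algebraMap K _ α) V, ← Algebra.commutes (φ s') V,
        ← mul_assoc, ← map_mul, mul_assoc, mul_sub, h3, mul_one]
      rw [show α * φ s' = -s' by simp only [α]; field_simp, map_neg, neg_mul, ← mul_neg, neg_sub]
    rw [← mul_assoc, h5, h6, ← hWA] at h4
    exact W.isUnit.mul_left_cancel h4
  have hAnil : IsNilpotent A := hA ▸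
    (Algebra.commute_algebraMap_left s' _).isNilpotent_mul_left (hWicomm.symm.isNilpotent_mul_right hVnil)
  have hrank : ∀ j, (A ^ j).rank = ((J - 1) ^ j).rank := by
    intro j
    have h1 : A ^ j = algebraMap K _ (s' ^ j) * ((V - 1) ^ j * (↑W⁻¹ : Matrix (Idx d) (Idx d) K) ^ j) := by
      rw [hA, (Algebra.commute_algebraMap_left s' _).mul_pow, hWicomm.symm.mul_pow, map_pow]
    rw [h1, Matrix.rank_mul_eq_right_of_isUnit_det _ _
        ((Matrix.isUnit_iff_isUnit_det _).1 ((isUnit_iff_ne_zero.2 (pow_ne_zero j hs')).map _)),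
      Matrix.rank_mul_eq_left_of_isUnit_det _ _ ((Matrix.isUnit_iff_isUnit_det _).1 (W⁻¹.isUnit.pow j))]
    have : V - 1 = (P : Matrix (Idx d) (Idx d) K) * (J - 1) * (↑P⁻¹ : Matrix (Idx d) (Idx d) K) := by
      rw [mul_sub, sub_mul, mul_one, Units.mul_inv, ← hVP]
    rw [this, Units.conj_pow, Matrix.rank_mul_eq_left_of_isUnit_det _ _
        ((Matrix.isUnit_iff_isUnit_det _).1 P⁻¹.isUnit),
      Matrix.rank_mul_eq_right_of_isUnit_det _ _ ((Matrix.isUnit_iff_isUnit_det _).1 P.isUnit)]
  obtain ⟨R, hR⟩ := similar_of_rank hAnil hN hrank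
  let B := betaUnit (K := K) (flipIdx d) flipIdx_flipIdx
  have hBB : B * B = 1 := Units.ext B.val_inv
  have hctB : ct (B : Matrix (Idx d) (Idx d) K) = (B : Matrix (Idx d) (Idx d) K) := twist_refl_betaUnit φ _ _
  have htw : ∀ X, twist φ (flipIdx d) X = (B : Matrix (Idx d) (Idx d) K) * ct X * (B : Matrix (Idx d) (Idx d) K) :=
    fun X => twist_eq φ _ _ X
  set N := J - 1 with hNdef
  have hctN : ct N * (B : Matrix (Idx d) (Idx d) K) = (B : Matrix (Idx d) (Idx d) K) * N := by
    have h1 : twist φ (flipIdx d) N = N := by rw [hNdef, map_sub, twist_J, twist_one]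
    rw [htw] at h1
    conv_rhs => rw [← h1]
    rw [← mul_assoc, ← mul_assoc, ← Units.val_mul B B, hBB, Units.val_one, one_mul]
  let R' : Matrix (Idx d) (Idx d) K := R
  let H : GL (Idx d) K := B * (twistUnit φ (Equiv.refl _) R * R)
  have hHval : (H : Matrix (Idx d) (Idx d) K) = (B : Matrix (Idx d) (Idx d) K) * (ct R' * R') := rfl
  have hHN : (H : Matrix (Idx d) (Idx d) K) * N = N * (H : Matrix (Idx d) (Idx d) K) := by
    have h1 : ct R' * R' * N = ct N * (ct R' * R') := by
      rw [mul_assoc, ← hR, ← mul_assoc, ← mul_assoc, ← hctmul R' N]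
      conv_lhs => rw [← hctA, ← hctmul, hR]
    have h2 : (B : Matrix (Idx d) (Idx d) K) * ct N = N * (B : Matrix (Idx d) (Idx d) K) := by
      have h3 := congrArg (fun X => (B : Matrix (Idx d) (Idx d) K) * X * (B : Matrix (Idx d) (Idx d) K)) hctN
      beta_reduce at h3
      rwa [mul_assoc, mul_assoc (ct N), ← Units.val_mul B B, hBB, Units.val_one, mul_one, ← mul_assoc,
        ← Units.val_mul B B, hBB, Units.val_one, one_mul] at h3
    rw [hHval, mul_assoc, h1, ← mul_assoc, h2, mul_assoc]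
  have hmemS : ∀ a : Matrix (Idx d) (Idx d) K, a * N = N * a ↔ a * J = J * a := fun a => by
    rw [hNdef, mul_sub, sub_mul, mul_one, one_mul, sub_left_inj]
  have hHfix : twist φ (flipIdx d) (H : Matrix (Idx d) (Idx d) K) = H := by
    rw [htw, hHval, hctmul, hctmul, show ct (ct R') = R' from twist_twist φ hφ _ (fun _ => rfl) _, hctB,
      mul_assoc, mul_assoc (ct R' * R'), ← Units.val_mul B B, hBB, Units.val_one, mul_one]
  obtain ⟨y, hyA, hyu, hy⟩ := (CfsgLib.Conj.adjoin_singleton_norm φ (twist φ (flipIdx d)) (twist_mul φ _)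
    (twist_algebraMap φ _) hw (Z := (H : Matrix (Idx d) (Idx d) K))
    (by rw [hHfix]; exact Algebra.self_mem_adjoin_singleton K _) (fun a _ => twist_twist φ hφ _ flipIdx_flipIdx a)).2 H
    (Algebra.self_mem_adjoin_singleton K _) H.isUnit hHfix
  have hy' : twist φ (flipIdx d) y * y = H := (CfsgLib.Conj.commute_of_mem_adjoin_singleton
    (CfsgLib.Conj.map_mem_adjoin_singleton φ (twist φ (flipIdx d)) (twist_mul φ _) (twist_algebraMap φ _)
      (by rw [hHfix]; exact Algebra.self_mem_adjoin_singleton K _) hyA) hyA).trans hy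
  obtain ⟨Y, rfl⟩ := hyu
  have hYN : (Y : Matrix (Idx d) (Idx d) K) * N = N * Y := by
    have h1 : (Y : Matrix (Idx d) (Idx d) K) ∈ Subalgebra.centralizer K ({N} : Set _) :=
      Algebra.adjoin_le (by
        rw [Set.singleton_subset_iff, SetLike.mem_coe, Subalgebra.mem_centralizer_iff]
        simpa using hHN.symm) hyA
    rw [Subalgebra.mem_centralizer_iff] at h1
    exact (h1 N rfl).symm
  let T : GL (Idx d) K := R * Y⁻¹
  let tu : GL (Idx d) K → GL (Idx d) K := twistUnit φ (Equiv.refl (Idx d))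
  have htumul : ∀ a b, tu (a * b) = tu b * tu a := fun a b => Units.ext (hctmul _ _)
  have hT : tu T * T = B := by
    have h1 : tu Y * B * Y = tu R * R := by
      have h2 : B * (tu Y * B * Y) = B * (tu R * R) := Units.ext (by
        show (B : Matrix (Idx d) (Idx d) K) * (ct (Y : Matrix (Idx d) (Idx d) K) *
          (B : Matrix (Idx d) (Idx d) K) * (Y : Matrix (Idx d) (Idx d) K)) = H
        rw [← hy', htw]
        simp only [mul_assoc])
      exact mul_left_cancel h2
    show tu (R * Y⁻¹) * (R * Y⁻¹) = B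
    rw [htumul, show tu Y⁻¹ = (tu Y)⁻¹ from Units.ext rfl, mul_assoc, ← mul_assoc (tu R), ← h1]
    group
  have hTN : A * (T : Matrix (Idx d) (Idx d) K) = T * N := by
    show A * ((R : Matrix (Idx d) (Idx d) K) * (↑Y⁻¹ : Matrix (Idx d) (Idx d) K)) =
      (R : Matrix (Idx d) (Idx d) K) * (↑Y⁻¹ : Matrix (Idx d) (Idx d) K) * N
    rw [← mul_assoc, hR, mul_assoc, mul_assoc]
    congr 1
    exact ((show Commute (Y : Matrix (Idx d) (Idx d) K) N from hYN).units_inv_left).eq.symm
  -- commuting with `v` and with `A`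
  have hcommA : ∀ G : Matrix (Idx d) (Idx d) K, G * V = V * G ↔ G * A = A * G := by
    intro G
    constructor
    · intro h
      have h1 : Commute G (V - 1) := (show Commute G V from h).sub_right (Commute.one_right _)
      have h2 : Commute G (W : Matrix (Idx d) (Idx d) K) := by
        rw [hW]; exact (show Commute G V from h).add_right (Algebra.commute_algebraMap_right α _)
      rw [hA]
      exact ((Algebra.commute_algebraMap_right s' G).mul_right (h1.mul_right h2.units_inv_right)).eq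
    · intro h
      have h1 : (A - algebraMap K _ s') * (W : Matrix (Idx d) (Idx d) K) = -algebraMap K _ (s' * (1 + α)) := by
        rw [sub_mul, hAW, hW, ← mul_sub, show V - 1 - (V + algebraMap K _ α) = -(algebraMap K _ (1 + α)) by
          rw [map_add, map_one]; abel, mul_neg, ← map_mul]
      have hc : s' * (1 + α) ≠ 0 := mul_ne_zero hs' hα1
      have h2 : (↑W⁻¹ : Matrix (Idx d) (Idx d) K) = algebraMap K _ (-(s' * (1 + α))⁻¹) * (A - algebraMap K _ s') := by
        apply W.inv_eq_of_mul_eq_one_left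
        rw [mul_assoc, h1, map_neg, neg_mul_neg, ← map_mul, inv_mul_cancel₀ hc, map_one]
      have h3 : Commute G (↑W⁻¹ : Matrix (Idx d) (Idx d) K) := by
        rw [h2]
        exact (Algebra.commute_algebraMap_right _ G).mul_right
          ((show Commute G A from h).sub_right (Algebra.commute_algebraMap_right s' G))
      have h4 : Commute G (W : Matrix (Idx d) (Idx d) K) := by
        have := h3.units_inv_right; rwa [inv_inv] at this
      rw [hW] at h4
      have := h4.sub_right (Algebra.commute_algebraMap_right α G)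
      rwa [add_sub_cancel_right] at this
  let conjT' : GL (Idx d) K ≃* GL (Idx d) K := MulAut.conj T
  let Φ : GL (Fin n) K ≃ GL (Idx d) K := Eu.toEquiv.trans (MulAut.conj T⁻¹).toEquiv
  have hΦ : ∀ g, Φ g = T⁻¹ * Eu g * T := fun g => by
    show T⁻¹ * Eu g * T⁻¹⁻¹ = _
    rw [inv_inv]
  refine Nat.card_congr (Equiv.trans ?_ (Φ.subtypeEquiv
    (p := fun g => g ∈ Cfsg.GU n K q ∧ g * (u : GL (Fin n) K) = (u : GL (Fin n) K) * g) fun g => ?_))
  · exact {
      toFun := fun g => ⟨g.1.1, g.1.2, congrArg Subtype.val (Subgroup.mem_centralizer_singleton_iff.1 g.2)⟩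
      invFun := fun g => ⟨⟨g.1, g.2.1⟩, Subgroup.mem_centralizer_singleton_iff.2 (Subtype.ext g.2.2)⟩
      left_inv := fun g => rfl
      right_inv := fun g => rfl }
  rw [hmemE, ← Eu.injective.eq_iff, map_mul, map_mul, hΦ]
  set G := Eu g
  rw [Units.ext_iff, Units.val_mul, Units.val_mul]
  change _ ∧ (G : Matrix (Idx d) (Idx d) K) * V = V * G ↔ _
  rw [hcommA, ← hmemS, and_comm]
  refine and_congr ?_ ?_
  · obtain ⟨x, hx⟩ : ∃ x : GL (Idx d) K, T⁻¹ * G * T = x := ⟨_, rfl⟩
    have hG : G = T * x * T⁻¹ := by rw [← hx]; group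
    rw [hx, hG, Units.val_mul, Units.val_mul]
    constructor
    · intro h
      have hTA : (↑T⁻¹ : Matrix (Idx d) (Idx d) K) * A = N * (↑T⁻¹ : Matrix (Idx d) (Idx d) K) := by
        rw [Units.inv_mul_eq_iff_eq_mul, ← mul_assoc, ← hTN, Units.mul_inv_cancel_right]
      calc (x : Matrix (Idx d) (Idx d) K) * N
          = (↑T⁻¹ : Matrix (Idx d) (Idx d) K) * ((T : Matrix (Idx d) (Idx d) K) * x * ↑T⁻¹ * A) * T := by
            rw [mul_assoc (T * x : Matrix (Idx d) (Idx d) K) (↑T⁻¹) A, hTA]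
            simp only [mul_assoc, Units.inv_mul_cancel_left, Units.inv_mul, mul_one]
        _ = (↑T⁻¹ : Matrix (Idx d) (Idx d) K) * (A * ((T : Matrix (Idx d) (Idx d) K) * x * ↑T⁻¹)) * T := by rw [h]
        _ = N * x := by
            rw [← mul_assoc (↑T⁻¹ : Matrix (Idx d) (Idx d) K) A, hTA]
            simp only [mul_assoc, Units.inv_mul_cancel_left, Units.inv_mul, mul_one]
    · intro h
      have hTA : (↑T⁻¹ : Matrix (Idx d) (Idx d) K) * A = N * (↑T⁻¹ : Matrix (Idx d) (Idx d) K) := by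
        rw [Units.inv_mul_eq_iff_eq_mul, ← mul_assoc, ← hTN, Units.mul_inv_cancel_right]
      calc (T : Matrix (Idx d) (Idx d) K) * x * ↑T⁻¹ * A = T * (x * N) * ↑T⁻¹ := by
            rw [mul_assoc, hTA]; simp only [mul_assoc]
        _ = T * N * x * ↑T⁻¹ := by rw [h]; simp only [mul_assoc]
        _ = A * (T * x * ↑T⁻¹) := by rw [← hTN]; simp only [mul_assoc]
  · have hval : ∀ a : GL (Idx d) K, ct (a : Matrix (Idx d) (Idx d) K) * a = 1 ↔ tu a * a = 1 := fun a =>
      ⟨fun h => Units.ext h, fun h => congrArg Units.val h⟩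
    have hval' : ∀ a : GL (Idx d) K, twist φ (flipIdx d) (a : Matrix (Idx d) (Idx d) K) * a = 1 ↔
        B * tu a * B * a = 1 := fun a => by
      rw [htw]; exact ⟨fun h => Units.ext h, fun h => congrArg Units.val h⟩
    rw [hval, hval']
    obtain ⟨x, hx⟩ : ∃ x : GL (Idx d) K, T⁻¹ * G * T = x := ⟨_, rfl⟩
    have hG : G = T * x * T⁻¹ := by rw [← hx]; group
    rw [hx, hG, htumul, htumul, show tu T⁻¹ = (tu T)⁻¹ from Units.ext rfl]
    have hBi : B⁻¹ = B := inv_eq_of_mul_eq_one_right hBB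
    constructor
    · intro h
      have h1 : tu x * (tu T * T) * x = tu T * T := by
        calc tu x * (tu T * T) * x = tu T * ((tu T)⁻¹ * (tu x * tu T) * (T * x * T⁻¹)) * T := by group
          _ = tu T * T := by rw [h, mul_one]
      rw [hT] at h1
      rw [mul_assoc, mul_assoc, ← mul_assoc (tu x), h1, hBB]
    · intro h
      have h1 : tu x * B * x = B := by
        calc tu x * B * x = B⁻¹ * (B * tu x * B * x) := by group
          _ = B := by rw [h, mul_one, hBi]
      calc (tu T)⁻¹ * (tu x * tu T) * (T * x * T⁻¹) = (tu T)⁻¹ * (tu x * (tu T * T) * x) * T⁻¹ := by group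
        _ = 1 := by rw [hT, h1, ← hT]; group

end CfsgLib.UnitaryCentralizer
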